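import Groth.Prelude.Def_DRing2
import Mathlib.Algebra.Category.ModuleCat.Monoidal.Basic
import Mathlib.CategoryTheory.Abelian.LeftDerived
import Mathlib.LinearAlgebra.TensorProduct.RightExactness
import Mathlib.Algebra.Homology.ShortComplex.ModuleCat

/-!
Vanishing of `Tor₁` from a presentation.
-/

universe u

open CategoryTheory CategoryTheory.Limits MonoidalCategory
open TensorProduct (tmul)

namespace Groth.Agent.TorH7

variable {A : Type u} [CommRing A]

section transfer

variable {M N : Type u} [AddCommGroup M] [Module A M] [AddCommGroup N] [Module A N]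
  {P Q : Type u} [AddCommGroup P] [Module A P] [AddCommGroup Q] [Module A Q]

/-- Injectivity of `M ⊗ K → M ⊗ P` does not depend on the projective presentation. -/
theorem lTensor_injective_transfer [Module.Projective A P] [Module.Projective A Q]
    (p : P →ₗ[A] N) (hp : Function.Surjective p) (q : Q →ₗ[A] N) (hq : Function.Surjective q)
    (h : Function.Injective ((LinearMap.ker p).subtype.lTensor M)) :
    Function.Injective ((LinearMap.ker q).subtype.lTensor M) := by
  obtain ⟨a, ha⟩ := Module.projective_lifting_property p q hp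
  obtain ⟨b, hb⟩ := Module.projective_lifting_property q p hq
  have ha' : ∀ x ∈ LinearMap.ker q, a x ∈ LinearMap.ker p := fun x hx => by
    rw [LinearMap.mem_ker, ← LinearMap.comp_apply, ha]; exact hx
  have hb' : ∀ x ∈ LinearMap.ker p, b x ∈ LinearMap.ker q := fun x hx => by
    rw [LinearMap.mem_ker, ← LinearMap.comp_apply, hb]; exact hx
  have hd : ∀ x : Q, x - b (a x) ∈ LinearMap.ker q := fun x => by
    rw [LinearMap.mem_ker, map_sub, ← LinearMap.comp_apply q b, hb, ← LinearMap.comp_apply p a, ha, sub_self]
  let d : Q →ₗ[A] LinearMap.ker q := (LinearMap.id - b.comp a).codRestrict _ hd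
  let aK := a.restrict ha'
  let bK := b.restrict hb'
  have key : LinearMap.id = d.comp (LinearMap.ker q).subtype + bK.comp aK :=
    LinearMap.ext fun x => Subtype.ext (by simp [d, aK, bK])
  rw [injective_iff_map_eq_zero] at h ⊢
  intro z hz
  have h1 : (aK.lTensor M) z = 0 := by
    apply h
    rw [← LinearMap.comp_apply, ← LinearMap.lTensor_comp,
      show (LinearMap.ker p).subtype.comp aK = a.comp (LinearMap.ker q).subtype from LinearMap.ext fun _ => rfl,
      LinearMap.lTensor_comp, LinearMap.comp_apply, hz, map_zero]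
  have := LinearMap.congr_fun (congrArg (LinearMap.lTensor M) key) z
  rw [LinearMap.lTensor_id, LinearMap.id_apply, LinearMap.lTensor_add, LinearMap.add_apply,
    LinearMap.lTensor_comp, LinearMap.comp_apply, hz, map_zero, LinearMap.lTensor_comp, LinearMap.comp_apply,
    h1, map_zero, add_zero] at this
  exact this

end transfer

/-- `Tor₁(M, N) = 0` if `M ⊗ K → M ⊗ P` is injective for one projective presentation of `N`. -/
theorem tor_one_subsingleton {M N P : Type u} [AddCommGroup M] [Module A M] [AddCommGroup N] [Module A N]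
    [AddCommGroup P] [Module A P] [Module.Projective A P] (p : P →ₗ[A] N) (hp : Function.Surjective p)
    (h : Function.Injective ((LinearMap.ker p).subtype.lTensor M)) :
    Subsingleton (DRing.Tor A 1 M N) := by
  let Pr := ProjectiveResolution.of (ModuleCat.of A N)
  haveI hproj0 : Module.Projective A (Pr.complex.X 0) :=
    IsProjective.iff_projective (Pr.complex.X 0) |>.2 (Pr.projective 0)
  let q : Pr.complex.X 0 →ₗ[A] N := (Pr.π.f 0).hom
  have hq : Function.Surjective q := (ModuleCat.epi_iff_surjective (Pr.π.f 0)).1 inferInstance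
  have hinj := lTensor_injective_transfer p hp q hq h
  rw [DRing.Tor, ← ModuleCat.isZero_iff_subsingleton]
  refine IsZero.of_iso ?_ (Pr.isoLeftDerivedObj _ 1)
  change IsZero (HomologicalComplex.homology _ 1)
  rw [← HomologicalComplex.exactAt_iff_isZero_homology,
    HomologicalComplex.exactAt_iff' _ 2 1 0 (by simp) (by simp), ShortComplex.moduleCat_exact_iff]
  intro z hz
  -- the differential `X 1 → X 0` factors through the kernel of the augmentation
  let d₁ : Pr.complex.X 1 →ₗ[A] Pr.complex.X 0 := (Pr.complex.d 1 0).hom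
  let d₂ : Pr.complex.X 2 →ₗ[A] Pr.complex.X 1 := (Pr.complex.d 2 1).hom
  have hd : ∀ x, d₁ x ∈ LinearMap.ker q := fun x => by
    rw [LinearMap.mem_ker]
    exact LinearMap.congr_fun (congrArg ModuleCat.Hom.hom Pr.complex_d_comp_π_f_zero) x
  let e : Pr.complex.X 1 →ₗ[A] LinearMap.ker q := d₁.codRestrict _ hd
  have he : Function.Surjective e := by
    rintro ⟨y, hy⟩
    obtain ⟨x, hx⟩ := (ShortComplex.moduleCat_exact_iff _).1 Pr.exact₀ y hy
    exact ⟨x, Subtype.ext hx⟩
  have hex : Function.Exact d₂ e := by
    intro x
    refine ⟨fun hx => ?_, ?_⟩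
    · exact (ShortComplex.moduleCat_exact_iff _).1 (Pr.exact_succ 0) x (congrArg Subtype.val hx)
    · rintro ⟨y, rfl⟩
      exact Subtype.ext (LinearMap.congr_fun (congrArg ModuleCat.Hom.hom (Pr.complex.d_comp_d 2 1 0)) y)
  have hz' : d₁.lTensor M z = 0 := hz
  have h0 : e.lTensor M z = 0 := by
    apply hinj
    rw [map_zero, ← LinearMap.comp_apply, ← LinearMap.lTensor_comp]
    exact hz'
  exact (lTensor_exact M hex he z).1 h0

end Groth.Agent.TorH7
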